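import Mathlib
import Groth.Agent.ClosedRep.EssFreeOver
import Groth.Agent.GrpComp.Prod
import Groth.Agent.GrpField.Irreducible

/-!
# Rigidity for schemes with only constant functions
-/

universe u

open CategoryTheory CategoryTheory.Limits MonoidalCategory CartesianMonoidalCategory MonObj AlgebraicGeometry TopologicalSpace

namespace Groth.Agent.AntiAffRig

variable {k : Type u} [Field k]

local notation "S" => Spec (CommRingCat.of k)

/-- Every scheme over a field is essentially free. -/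
theorem isEssentiallyFree_field {X : Scheme.{u}} (p : X ⟶ S) : SGA3x.IsEssentiallyFree p := by
  intro s
  refine ⟨⊤, trivial, isAffineOpen_top _, S, inferInstance, (Scheme.topIso S).inv, inferInstance, inferInstance,
    fun x => ?_⟩
  obtain ⟨V, hV, hxV, -⟩ := exists_isAffineOpen_mem_and_subset (U := (⊤ : Opens ↥(pullback p ((Scheme.topIso S).inv ≫ (⊤ : (S).Opens).ι)))) (x := x) trivial
  refine ⟨V, hxV, hV, ?_⟩
  haveI : Nontrivial Γ(S, ⊤) := (Scheme.ΓSpecIso (CommRingCat.of k)).commRingCatIsoToRingEquiv.toEquiv.nontrivial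
  letI : Field Γ(S, ⊤) := ((Scheme.ΓSpecIso (CommRingCat.of k)).commRingCatIsoToRingEquiv.toMulEquiv.isField (Field.toIsField k)).toField
  letI := (V.ι ≫ pullback.snd p ((Scheme.topIso S).inv ≫ (⊤ : (S).Opens).ι)).appTop.hom.toAlgebra
  exact Module.Projective.of_free

/-- Only constant functions. -/
def OnlyConst (X : Over S) : Prop :=
  Function.Bijective ((Scheme.ΓSpecIso (CommRingCat.of k)).inv ≫ X.hom.appTop).hom

theorem OnlyConst.isIso_appTop {X : Over S} (hX : OnlyConst X) : IsIso X.hom.appTop := by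
  have : IsIso ((Scheme.ΓSpecIso (CommRingCat.of k)).inv ≫ X.hom.appTop) :=
    (ConcreteCategory.isIso_iff_bijective _).2 hX
  exact IsIso.of_isIso_comp_left (Scheme.ΓSpecIso (CommRingCat.of k)).inv _

/-- A product with an affine scheme has only the functions of that scheme. -/
theorem isIso_snd_appTop {X T : Over S} [QuasiCompact X.hom] [QuasiSeparated X.hom] (hX : OnlyConst X)
    [IsAffine T.left] : IsIso (snd X T).left.appTop := by
  haveI : Flat T.hom := inferInstance
  haveI hc : CompactSpace X.left := (quasiCompact_iff_compactSpace X.hom).1 inferInstance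
  haveI hs : QuasiSeparatedSpace X.left := (quasiSeparated_iff_quasiSeparatedSpace X.hom).1 inferInstance
  have sq := IsPullback.of_hasPullback X.hom T.hom
  have h1 := (isIso_pushoutSection_iff sq (US := ⊤) (UT := ⊤) (UX := ⊤) (UY := ⊤) le_top le_top (by simp)).1
    (isIso_pushoutSection_of_isQuasiSeparated_of_flat_right sq le_top le_top (by simp) (isAffineOpen_top _)
      (isAffineOpen_top _) isCompact_univ isQuasiSeparated_univ)
  have hiso : IsIso (X.hom.appLE ⊤ ⊤ le_top) := by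
    rw [show X.hom.appLE ⊤ ⊤ le_top = X.hom.appTop from (Scheme.Hom.app_eq_appLE _).symm]
    exact hX.isIso_appTop
  have hq := h1.isIso_inr_of_isIso hiso
  rwa [show (pullback.snd X.hom T.hom).appLE ⊤ ⊤ le_top = (pullback.snd X.hom T.hom).appTop from
    (Scheme.Hom.app_eq_appLE _).symm] at hq

/-- A map to an affine open out of `X × T` factors through `T`. -/
theorem eq_snd_of_affine {X T Z : Over S} [QuasiCompact X.hom] [QuasiSeparated X.hom] (hX : OnlyConst X)
    [IsAffine T.left] (x₀ : 𝟙_ (Over S) ⟶ X) (h : X ⊗ T ⟶ Z) (V : Z.left.Opens) (hV : IsAffineOpen V)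
    (hr : Set.range h.left ⊆ V) : h = snd X T ≫ lift (toUnit T ≫ x₀) (𝟙 T) ≫ h := by
  let σ : T ⟶ X ⊗ T := lift (toUnit T ≫ x₀) (𝟙 T)
  let h' : (X ⊗ T).left ⟶ V.toScheme := IsOpenImmersion.lift V.ι h.left (by rw [Scheme.Opens.range_ι]; exact hr)
  have hh : h' ≫ V.ι = h.left := IsOpenImmersion.lift_fac _ _ _
  haveI : IsAffine V.toScheme := hV
  have key : h' = (snd X T).left ≫ σ.left ≫ h' := by
    refine ext_of_isAffine (CommRingCat.hom_ext (RingHom.ext fun v => ?_))
    obtain ⟨c, hc⟩ := ((ConcreteCategory.isIso_iff_bijective _).1 (isIso_snd_appTop (T := T) hX)).2 (h'.appTop v)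
    have hσ : σ.left ≫ (snd X T).left = 𝟙 _ := by
      rw [← Over.comp_left, lift_snd]; rfl
    simp only [Scheme.Hom.comp_appTop, CommRingCat.comp_apply]
    rw [← hc]
    refine congrArg (snd X T).left.appTop ?_
    rw [← CommRingCat.comp_apply, ← Scheme.Hom.comp_appTop, hσ]
    rfl
  refine Over.OverMorphism.ext ?_
  rw [Over.comp_left, Over.comp_left, ← hh]
  conv_lhs => rw [key]
  simp only [Category.assoc]
  rfl

/-- The infinitesimal neighbourhoods of a rational point are collapsed. -/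
theorem exists_nhd {X Y Z : Over S} [QuasiCompact X.hom] [QuasiSeparated X.hom] (hX : OnlyConst X)
    [IsLocallyNoetherian Y.left] [IsSeparated Z.hom] (x₀ : 𝟙_ (Over S) ⟶ X) (y₀ : 𝟙_ (Over S) ⟶ Y)
    (z₀ : 𝟙_ (Over S) ⟶ Z) (f : X ⊗ Y ⟶ Z) (hf : (X ◁ y₀) ≫ f = toUnit _ ≫ z₀) :
    ∃ (W : Over S) (j : W ⟶ Y), IsClosedImmersion j.left ∧
      (∀ (T : Over S) (y : T ⟶ Y), (∃ w, w ≫ j = y) ↔
        ∀ (T' : Over S) (t : T' ⟶ T) (a : T' ⟶ X),
          lift a (t ≫ y) ≫ f = t ≫ y ≫ lift (toUnit Y ≫ x₀) (𝟙 Y) ≫ f) ∧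
      ∃ (U : Over S) (i : U ⟶ Y), IsOpenImmersion i.left ∧ IsAffine U.left ∧ (∃ e, e ≫ i = y₀) ∧ ∃ w, w ≫ j = i := by
  let g : Y ⟶ Z := lift (toUnit Y ≫ x₀) (𝟙 Y) ≫ f
  haveI : IsClosedImmersion (lift (𝟙 Z) (𝟙 Z)).left := by
    have : (lift (𝟙 Z) (𝟙 Z)).left = pullback.diagonal Z.hom := by
      apply pullback.hom_ext
      · rw [pullback.diagonal_fst]; exact congrArg CommaMorphism.left (lift_fst (𝟙 Z) (𝟙 Z))
      · rw [pullback.diagonal_snd]; exact congrArg CommaMorphism.left (lift_snd (𝟙 Z) (𝟙 Z))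
    rw [this]; infer_instance
  obtain ⟨W, j, hj, hW⟩ := ClosedRep.exists_closed_preimage_essFree (lift f (snd X Y ≫ g)) (lift (𝟙 Z) (𝟙 Z))
    (isEssentiallyFree_field X.hom)
  have hW' : ∀ (T : Over S) (y : T ⟶ Y), (∃ w, w ≫ j = y) ↔
      ∀ (T' : Over S) (t : T' ⟶ T) (a : T' ⟶ X), lift a (t ≫ y) ≫ f = t ≫ y ≫ g := by
    intro T y
    rw [hW]
    refine forall_congr' fun T' => forall_congr' fun t => forall_congr' fun a => ⟨?_, fun h => ⟨t ≫ y ≫ g, ?_⟩⟩
    · rintro ⟨b, hb⟩
      have h1 := congrArg (· ≫ fst Z Z) hb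
      have h2 := congrArg (· ≫ snd Z Z) hb
      simp only [Category.assoc, lift_fst, lift_snd, Category.comp_id] at h1 h2
      rw [lift_snd_assoc, Category.assoc] at h2
      rw [h1, ← h2]
    · ext1 <;> simp [h]
  refine ⟨W, j, hj, hW', ?_⟩
  obtain ⟨V, hV, hyV, -⟩ := exists_isAffineOpen_mem_and_subset (U := (⊤ : Opens ↥Y.left))
    (x := y₀.left (IsLocalRing.closedPoint k)) trivial
  let R := Γ(Y.left, V)
  haveI : IsNoetherianRing R := IsLocallyNoetherian.component_noetherian ⟨V, hV⟩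
  let ι₀ : Spec R ⟶ Y.left := hV.fromSpec
  have hr0 : Set.range y₀.left ⊆ Set.range ι₀ := by
    rw [show Set.range ι₀ = (V : Set Y.left) from hV.range_fromSpec]
    rintro _ ⟨p, rfl⟩
    rw [show p = IsLocalRing.closedPoint k from @Subsingleton.elim _ (inferInstanceAs (Subsingleton (PrimeSpectrum k))) _ _]
    exact hyV
  let l₀ := IsOpenImmersion.lift ι₀ y₀.left hr0
  have hl₀ : l₀ ≫ ι₀ = y₀.left := IsOpenImmersion.lift_fac _ _ _
  obtain ⟨φ, hφ⟩ := Spec.map_surjective (l₀ : Spec (CommRingCat.of k) ⟶ Spec R)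
  obtain ⟨c, hc⟩ := Spec.map_surjective (ι₀ ≫ Y.hom : Spec R ⟶ Spec (CommRingCat.of k))
  have hφc : ∀ b, φ (c b) = b := by
    have : c ≫ φ = 𝟙 _ := by
      refine Spec.map_injective ?_
      rw [Spec.map_comp, hφ, hc, ← Category.assoc, hl₀, Spec.map_id]
      exact Over.w y₀
    exact fun b => congrArg (fun m => m.hom b) this
  let p : Ideal R := RingHom.ker φ.hom
  haveI hp : p.IsMaximal := RingHom.ker_isMaximal_of_surjective φ.hom fun b => ⟨c b, hφc b⟩
  obtain ⟨I, e, he⟩ := (IsClosedImmersion.Spec_iff (f := pullback.snd j.left ι₀)).mp inferInstance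
  have hI : ∀ n : ℕ, I ≤ p ^ (n + 1) := by
    intro n
    let q : R ⟶ CommRingCat.of (R ⧸ p ^ (n + 1)) := CommRingCat.ofHom (Ideal.Quotient.mk _)
    let T : Over S := Over.mk (Spec.map q ≫ ι₀ ≫ Y.hom)
    let t : T ⟶ Y := Over.homMk (Spec.map q ≫ ι₀) (Category.assoc _ _ _)
    haveI : IsAffine T.left := inferInstanceAs (IsAffine (Spec _))
    have hle : p ^ (n + 1) ≤ p := Ideal.pow_le_self n.succ_ne_zero
    let ψ : CommRingCat.of (R ⧸ p ^ (n + 1)) ⟶ CommRingCat.of k :=
      CommRingCat.ofHom (Ideal.Quotient.lift _ φ.hom fun a ha => RingHom.mem_ker.mp (hle ha))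
    have hq : q ≫ ψ = φ := by ext; rfl
    let pt : 𝟙_ (Over S) ⟶ T := Over.homMk (Spec.map ψ) (by
      change Spec.map ψ ≫ Spec.map q ≫ ι₀ ≫ Y.hom = _
      rw [← Category.assoc, ← Spec.map_comp, hq, hφ, ← Category.assoc, hl₀]
      exact Over.w y₀)
    have hpt : pt ≫ t = y₀ := by
      refine Over.OverMorphism.ext ?_
      change Spec.map ψ ≫ Spec.map q ≫ ι₀ = y₀.left
      rw [← Category.assoc, ← Spec.map_comp, hq, hφ, hl₀]
    have hsub : Subsingleton T.left := by
      refine ⟨fun P Q => ?_⟩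
      have key : ∀ P : PrimeSpectrum (R ⧸ p ^ (n + 1)), P.asIdeal.comap q.hom = p := fun P =>
        (hp.eq_of_le (Ideal.IsPrime.comap q.hom).ne_top fun a ha => by
          refine P.isPrime.mem_of_pow_mem (n + 1) ?_
          rw [← map_pow, show q.hom (a ^ (n + 1)) = 0 from Ideal.Quotient.eq_zero_iff_mem.mpr (Ideal.pow_mem_pow ha _)]
          exact P.asIdeal.zero_mem).symm
      exact PrimeSpectrum.ext (Ideal.comap_injective_of_surjective _ Ideal.Quotient.mk_surjective ((key P).trans (key Q).symm))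
    obtain ⟨Vz, hVz, hzV, -⟩ := exists_isAffineOpen_mem_and_subset (U := (⊤ : Opens ↥Z.left))
      (x := z₀.left (IsLocalRing.closedPoint k)) trivial
    have hh := eq_snd_of_affine hX x₀ ((X ◁ t) ≫ f) Vz hVz (by
      rintro _ ⟨w, rfl⟩
      obtain ⟨w', rfl⟩ := GrpComp.mem_range_map (𝟙 X) pt w ⟨_, rfl⟩ ⟨IsLocalRing.closedPoint k, Subsingleton.elim _ _⟩
      rw [← Scheme.Hom.comp_apply, ← Over.comp_left, id_tensorHom, ← Category.assoc (X ◁ pt), ← whiskerLeft_comp, hpt, hf,
        Over.comp_left, Scheme.Hom.comp_apply]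
      rw [show (toUnit (X ⊗ 𝟙_ (Over S))).left w' = IsLocalRing.closedPoint k from
        @Subsingleton.elim _ (inferInstanceAs (Subsingleton (PrimeSpectrum k))) _ _]
      exact hzV)
    obtain ⟨w, hw⟩ := (hW' T t).2 fun T' s a => by
      have h1 := congrArg (lift a s ≫ ·) hh
      simp only [lift_whiskerLeft_assoc, lift_snd_assoc] at h1
      rw [h1]
      simp only [g, ← Category.assoc]
      congr 1
      ext1 <;> simp
    have hw' : w.left ≫ j.left = Spec.map q ≫ ι₀ := congrArg CommaMorphism.left hw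
    let l := pullback.lift (f := j.left) (g := ι₀) w.left (Spec.map q) hw'
    obtain ⟨χ, hχ⟩ := Spec.map_surjective (l ≫ e.hom : Spec (CommRingCat.of (R ⧸ p ^ (n + 1))) ⟶ Spec (CommRingCat.of (R ⧸ I)))
    have hqχ : CommRingCat.ofHom (Ideal.Quotient.mk I) ≫ χ = q := by
      refine Spec.map_injective ?_
      rw [Spec.map_comp, hχ, Category.assoc, ← he, pullback.lift_snd]
    intro a ha
    rw [← Ideal.Quotient.eq_zero_iff_mem]
    have := congrArg (fun m => m.hom a) hqχ
    change χ.hom (Ideal.Quotient.mk I a) = Ideal.Quotient.mk _ a at this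
    rw [← this, Ideal.Quotient.eq_zero_iff_mem.mpr ha, map_zero]
  obtain ⟨s, hs, hsI⟩ : ∃ s ∉ p, ∀ a ∈ I, s * a = 0 := by
    let Rp := Localization.AtPrime p
    have hz : ∀ a ∈ I, algebraMap R Rp a = 0 := by
      intro a ha
      rw [← Ideal.mem_bot, ← Ideal.iInf_pow_eq_bot_of_isLocalRing (IsLocalRing.maximalIdeal Rp) (IsLocalRing.maximalIdeal.isMaximal Rp).ne_top, Ideal.mem_iInf]
      intro n
      rw [← Localization.AtPrime.map_eq_maximalIdeal, ← Ideal.map_pow]
      exact Ideal.mem_map_of_mem _ (Ideal.pow_le_pow_right n.le_succ (hI n ha))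
    classical
    obtain ⟨G, hG⟩ := IsNoetherian.noetherian (R := R) (M := R) I
    have hex : ∀ a ∈ G, ∃ m : p.primeCompl, (m : R) * a = 0 := fun a ha =>
      (IsLocalization.map_eq_zero_iff p.primeCompl Rp a).1 (hz a (hG ▸ Submodule.subset_span ha))
    choose m hm using hex
    refine ⟨∏ a ∈ G.attach, (m a.1 a.2 : R), (prod_mem fun a _ => (m a.1 a.2).2 : _ ∈ p.primeCompl), fun a ha => ?_⟩
    rw [← hG] at ha
    induction ha using Submodule.span_induction with
    | mem x hx =>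
      rw [Finset.prod_eq_mul_prod_sdiff_singleton_of_mem (Finset.mem_attach G ⟨x, hx⟩), mul_comm (m x hx : R),
        _root_.mul_assoc, hm x hx, mul_zero]
    | zero => rw [mul_zero]
    | add x y _ _ hx hy => rw [mul_add, hx, hy, add_zero]
    | smul r x _ hx => rw [smul_eq_mul, mul_left_comm, hx, mul_zero]
  let r : R ⟶ CommRingCat.of (Localization.Away s) := CommRingCat.ofHom (algebraMap R (Localization.Away s))
  haveI : IsOpenImmersion (Spec.map r) := IsOpenImmersion.of_isLocalization s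
  let U : Over S := Over.mk (Spec.map r ≫ ι₀ ≫ Y.hom)
  let i : U ⟶ Y := Over.homMk (Spec.map r ≫ ι₀) (Category.assoc _ _ _)
  have hu : IsUnit (φ.hom s) := isUnit_iff_ne_zero.mpr fun h0 => hs (RingHom.mem_ker.mpr h0)
  let ψ : CommRingCat.of (Localization.Away s) ⟶ CommRingCat.of k := CommRingCat.ofHom (IsLocalization.Away.lift s hu)
  have hrψ : r ≫ ψ = φ := by ext a; exact IsLocalization.Away.lift_eq s hu a
  refine ⟨U, i, inferInstanceAs (IsOpenImmersion (Spec.map r ≫ ι₀)), inferInstanceAs (IsAffine (Spec _)),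
    ⟨Over.homMk (Spec.map ψ) ?_, ?_⟩, ?_⟩
  · change Spec.map ψ ≫ Spec.map r ≫ ι₀ ≫ Y.hom = _
    rw [← Category.assoc, ← Spec.map_comp, hrψ, hφ, ← Category.assoc, hl₀]
    exact Over.w y₀
  · refine Over.OverMorphism.ext ?_
    change Spec.map ψ ≫ Spec.map r ≫ ι₀ = y₀.left
    rw [← Category.assoc, ← Spec.map_comp, hrψ, hφ, hl₀]
  · have hkill : ∀ a ∈ I, r.hom a = 0 := fun a ha =>
      (IsLocalization.map_eq_zero_iff (Submonoid.powers s) _ a).2 ⟨⟨s, Submonoid.mem_powers s⟩, hsI a ha⟩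
    let χ : CommRingCat.of (R ⧸ I) ⟶ CommRingCat.of (Localization.Away s) := CommRingCat.ofHom (Ideal.Quotient.lift I r.hom hkill)
    have hχ : CommRingCat.ofHom (Ideal.Quotient.mk I) ≫ χ = r := by ext; rfl
    have key : (Spec.map χ ≫ e.inv ≫ pullback.fst j.left ι₀) ≫ j.left = Spec.map r ≫ ι₀ := by
      have he' : e.inv ≫ pullback.snd j.left ι₀ = Spec.map (CommRingCat.ofHom (Ideal.Quotient.mk I)) := by
        rw [he, Iso.inv_hom_id_assoc]
      simp only [Category.assoc, pullback.condition]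
      rw [reassoc_of% he', ← Category.assoc, ← Spec.map_comp, hχ]
    refine ⟨Over.homMk (Spec.map χ ≫ e.inv ≫ pullback.fst j.left ι₀) ?_, Over.OverMorphism.ext key⟩
    rw [← Over.w j, ← Category.assoc, key, Category.assoc]
    rfl

/-- Rigidity: `X` with only constant functions, `Y` irreducible and reduced. -/
theorem eq_snd_of_irreducible {X Y Z : Over S} [QuasiCompact X.hom] [QuasiSeparated X.hom] (hX : OnlyConst X)
    [IsLocallyNoetherian Y.left] [IrreducibleSpace ↥Y.left] [IsReduced Y.left] [IsSeparated Z.hom]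
    (x₀ : 𝟙_ (Over S) ⟶ X) (y₀ : 𝟙_ (Over S) ⟶ Y) (z₀ : 𝟙_ (Over S) ⟶ Z) (f : X ⊗ Y ⟶ Z)
    (hf : (X ◁ y₀) ≫ f = toUnit _ ≫ z₀) : f = snd X Y ≫ lift (toUnit Y ≫ x₀) (𝟙 Y) ≫ f := by
  obtain ⟨W, j, hj, hW, U, i, hi, -, ⟨e, he⟩, w, hw⟩ := exists_nhd hX x₀ y₀ z₀ f hf
  have hdense : Dense (Set.range i.left) :=
    i.left.isOpenEmbedding.isOpen_range.dense ⟨_, e.left (IsLocalRing.closedPoint k), rfl⟩
  haveI : Surjective j.left := ⟨Set.range_eq_univ.mp (Set.eq_univ_of_univ_subset (by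
    rw [← hdense.closure_eq]
    refine closure_minimal ?_ j.left.isClosedEmbedding.isClosed_range
    rintro _ ⟨p, rfl⟩
    exact ⟨w.left p, by rw [← Scheme.Hom.comp_apply, ← Over.comp_left, hw]⟩))⟩
  haveI : IsIso j.left := isIso_of_isClosedImmersion_of_surjective j.left
  haveI : IsIso j := (isIso_iff_of_reflects_iso _ (Over.forget _)).mp this
  have := (hW Y (𝟙 Y)).1 ⟨inv j, IsIso.inv_hom_id j⟩ (X ⊗ Y) (snd X Y) (fst X Y)
  simpa using this

/-- A closed subscheme of a connected group which is stable under multiplication and contains an open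
neighbourhood of the unit is everything. -/
theorem isIso_of_mul_stable {H W : Over S} [GrpObj H] [LocallyOfFiniteType H.hom] [IsSeparated H.hom]
    [ConnectedSpace H.left] (j : W ⟶ H) [IsClosedImmersion j.left]
    (hmul : ∀ (T : Over S) (a b : T ⟶ H), (∃ w, w ≫ j = a) → (∃ w, w ≫ j = b) → ∃ w, w ≫ j = a * b)
    (U : Over S) (i : U ⟶ H) [IsOpenImmersion i.left] [IsAffine U.left] (hU : ∃ e, e ≫ i = η[H])
    (hi : ∃ w, w ≫ j = i) : IsIso j := by
  obtain ⟨e, he⟩ := hU
  haveI : Mono i := by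
    haveI : Mono i.left := inferInstance
    exact Over.mono_of_mono_left i
  haveI : Mono j := by
    haveI : Mono j.left := inferInstance
    exact Over.mono_of_mono_left j
  let q : U ⊗ U ⟶ H := (fst U U ≫ i) * (snd U U ≫ i)
  obtain ⟨z, hz⟩ : ∃ z, z ≫ j = q := by
    obtain ⟨w, hw⟩ := hi
    exact hmul _ _ _ ⟨fst U U ≫ w, by rw [Category.assoc, hw]⟩ ⟨snd U U ≫ w, by rw [Category.assoc, hw]⟩
  haveI : Flat H.hom := inferInstance
  haveI hqflat : Flat q.left := by
    let sh : H ⊗ H ≅ H ⊗ H :=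
      { hom := lift (fst H H) (fst H H * snd H H)
        inv := lift (fst H H) ((fst H H)⁻¹ * snd H H)
        hom_inv_id := by ext1 <;> simp [MonObj.comp_mul, GrpObj.comp_inv]
        inv_hom_id := by ext1 <;> simp [MonObj.comp_mul, GrpObj.comp_inv] }
    have hq : q = (i ⊗ₘ i) ≫ sh.hom ≫ snd H H := by
      simp [q, sh, MonObj.comp_mul]
    haveI : Flat (snd H H).left := inferInstanceAs (Flat (pullback.snd H.hom H.hom))
    haveI : Flat (i ⊗ₘ i).left := by
      rw [Over.tensorHom_left]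
      infer_instance
    haveI : IsIso sh.hom := sh.isIso_hom
    haveI : IsIso sh.hom.left := Functor.map_isIso (Over.forget _) sh.hom
    rw [hq, Over.comp_left, Over.comp_left]
    infer_instance
  haveI : QuasiCompact q.left := by
    haveI : CompactSpace ↥U.left := inferInstance
    haveI : QuasiCompact U.hom := (quasiCompact_iff_compactSpace U.hom).2 inferInstance
    haveI : QuasiCompact (q.left ≫ H.hom) := by
      rw [Over.w]
      exact inferInstanceAs (QuasiCompact (pullback.fst U.hom U.hom ≫ U.hom))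
    exact QuasiCompact.of_comp q.left H.hom
  haveI : Surjective q.left := by
    refine ⟨fun h => ?_⟩
    haveI : GeometricallyIrreducible H.hom := GrpField.geometricallyIrreducible_of_connected H
    let T : Over S := Over.mk (H.left.fromSpecResidueField h ≫ H.hom)
    let x : T ⟶ H := Over.homMk (H.left.fromSpecResidueField h) rfl
    haveI : IrreducibleSpace T.left := inferInstanceAs (IrreducibleSpace (Spec (H.left.residueField h)))
    haveI : Surjective H.hom := inferInstance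
    haveI : IrreducibleSpace ↥(H ⊗ T).left := inferInstanceAs (IrreducibleSpace ↥(pullback H.hom T.hom))
    let α : H ⊗ T ⟶ H := fst H T
    let β : H ⊗ T ⟶ H := (fst H T)⁻¹ * (snd H T ≫ x)
    let O : Set H.left := Set.range i.left
    have hO : IsOpen O := i.left.isOpenEmbedding.isOpen_range
    obtain ⟨t⟩ : Nonempty T.left := inferInstanceAs (Nonempty ↥(Spec (H.left.residueField h)))
    have hone : ∀ y : T.left, (1 : T ⟶ H).left y ∈ O := by
      intro y
      refine ⟨(toUnit T ≫ e).left y, ?_⟩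
      rw [← Scheme.Hom.comp_apply, ← Over.comp_left, Category.assoc, he]
      rfl
    obtain ⟨w, -, hwa, hwb⟩ := (IrreducibleSpace.isIrreducible_univ ↥(H ⊗ T).left).2 (α.left ⁻¹' O) (β.left ⁻¹' O)
      (hO.preimage α.left.continuous) (hO.preimage β.left.continuous)
      ⟨(lift (1 : T ⟶ H) (𝟙 T)).left t, trivial, by
        show α.left ((lift (1 : T ⟶ H) (𝟙 T)).left t) ∈ O
        rw [← Scheme.Hom.comp_apply, ← Over.comp_left, lift_fst]; exact hone t⟩
      ⟨(lift x (𝟙 T)).left t, trivial, by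
        show β.left ((lift x (𝟙 T)).left t) ∈ O
        rw [← Scheme.Hom.comp_apply, ← Over.comp_left, MonObj.comp_mul, GrpObj.comp_inv, lift_fst, lift_snd_assoc,
          Category.id_comp, inv_mul_cancel]
        exact hone t⟩
    let P : Over S := Over.mk ((H ⊗ T).left.fromSpecResidueField w ≫ (H ⊗ T).hom)
    let π : P ⟶ H ⊗ T := Over.homMk ((H ⊗ T).left.fromSpecResidueField w) rfl
    have hfac : ∀ g' : H ⊗ T ⟶ H, g'.left w ∈ O → ∃ u : P ⟶ U, u ≫ i = π ≫ g' := by
      intro g' hg'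
      have hr : Set.range (π ≫ g').left ⊆ O := by
        rintro _ ⟨p, rfl⟩
        rw [Over.comp_left, Scheme.Hom.comp_apply]
        change g'.left ((H ⊗ T).left.fromSpecResidueField w p) ∈ O
        rwa [Scheme.fromSpecResidueField_apply]
      refine ⟨Over.homMk (IsOpenImmersion.lift i.left (π ≫ g').left hr) ?_, Over.OverMorphism.ext (IsOpenImmersion.lift_fac _ _ _)⟩
      rw [← Over.w i, IsOpenImmersion.lift_fac_assoc, Over.w]
    obtain ⟨u₁, hu₁⟩ := hfac α hwa
    obtain ⟨u₂, hu₂⟩ := hfac β hwb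
    obtain ⟨p⟩ : Nonempty P.left := inferInstanceAs (Nonempty ↥(Spec ((H ⊗ T).left.residueField w)))
    refine ⟨(lift u₁ u₂).left p, ?_⟩
    rw [← Scheme.Hom.comp_apply, ← Over.comp_left, MonObj.comp_mul, lift_fst_assoc, lift_snd_assoc, hu₁, hu₂,
      ← MonObj.comp_mul, mul_inv_cancel_left, ← Category.assoc, Over.comp_left, Scheme.Hom.comp_apply]
    exact Scheme.fromSpecResidueField_apply h _
  have hker : ∀ {Z : Scheme.{u}} (g₁ g₂ : Z ⟶ (U ⊗ U).left), g₁ ≫ q.left = g₂ ≫ q.left → g₁ ≫ z.left = g₂ ≫ z.left := by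
    intro Z g₁ g₂ hg
    rw [← cancel_mono j.left, Category.assoc, Category.assoc, ← Over.comp_left, hz]
    exact hg
  let s : H.left ⟶ W.left := EffectiveEpi.desc q.left z.left hker
  have hs : s ≫ j.left = 𝟙 _ := by
    rw [← cancel_epi q.left, ← Category.assoc, EffectiveEpi.fac q.left z.left hker, Category.comp_id, ← Over.comp_left, hz]
  haveI : IsIso j.left := ⟨s, by rw [← cancel_mono j.left, Category.assoc, hs, Category.comp_id, Category.id_comp], hs⟩
  exact (isIso_iff_of_reflects_iso _ (Over.forget _)).mp this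

/-- A scheme with only constant functions and a rational point is connected. -/
theorem OnlyConst.connectedSpace {X : Over S} (hX : OnlyConst X) (x₀ : 𝟙_ (Over S) ⟶ X) : ConnectedSpace X.left := by
  haveI : Nonempty X.left := ⟨x₀.left (IsLocalRing.closedPoint k)⟩
  refine connectedSpace_iff_clopen.mpr ⟨inferInstance, fun C hC => ?_⟩
  by_contra hne
  push Not at hne
  let U₁ : X.left.Opens := ⟨C, hC.2⟩
  let U₂ : X.left.Opens := ⟨Cᶜ, hC.1.isOpen_compl⟩
  have hd : U₁ ⊓ U₂ = ⊥ := Opens.ext (Set.inter_compl_self C)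
  have hsub : ∀ V : X.left.Opens, V = ⊥ → Subsingleton Γ(X.left, V) := fun V h => h ▸ inferInstance
  let UU : Bool → X.left.Opens := fun b => cond b U₁ U₂
  let sf : ∀ b, Γ(X.left, UU b) := fun b => if b then 1 else 0
  obtain ⟨s, hs, -⟩ := X.left.sheaf.existsUnique_gluing' UU ⊤ (fun b => homOfLE le_top)
    (fun x _ => by
      by_cases hx : x ∈ C
      · exact Opens.mem_iSup.2 ⟨true, hx⟩
      · exact Opens.mem_iSup.2 ⟨false, hx⟩)
    sf (fun a b => by
      cases a <;> cases b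
      · rfl
      · exact (hsub _ ((inf_comm _ _).trans hd)).elim _ _
      · exact (hsub _ hd).elim _ _
      · rfl)
  obtain ⟨c, hc⟩ := hX.2 s
  have key : ∀ b, Nonempty (UU b).toScheme → ∀ d : k, sf b = (if b then 1 else 0) → c = if b then 1 else 0 := by
    intro b hb d hsf
    haveI := hb
    haveI : Nontrivial Γ(X.left, UU b) := Scheme.component_nontrivial X.left (UU b)
    let ρ : k →+* Γ(X.left, UU b) :=
      ((Scheme.ΓSpecIso (CommRingCat.of k)).inv ≫ X.hom.appTop ≫ X.left.presheaf.map (homOfLE le_top).op).hom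
    apply ρ.injective
    have h1 : ρ c = sf b := by
      rw [← hs b, ← hc]
      rfl
    rw [h1, hsf]
    cases b <;> simp
  obtain ⟨⟨x, hx⟩, y, hy⟩ : C.Nonempty ∧ Cᶜ.Nonempty := ⟨hne.1, Set.nonempty_compl.mpr hne.2⟩
  have h1 := key true ⟨⟨x, hx⟩⟩ 0 rfl
  have h2 := key false ⟨⟨y, hy⟩⟩ 0 rfl
  exact one_ne_zero ((h1.symm.trans h2 : (1 : k) = 0))

/-- Rigidity over an algebraically closed field for a connected parameter space. -/
theorem eq_snd_of_connected [IsAlgClosed k] {X Y Z : Over S} [QuasiCompact X.hom] [QuasiSeparated X.hom] (hX : OnlyConst X)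
    [LocallyOfFiniteType Y.hom] [ConnectedSpace ↥Y.left] [IsSeparated Z.hom]
    (x₀ : 𝟙_ (Over S) ⟶ X) (y₀ : 𝟙_ (Over S) ⟶ Y) (z₀ : 𝟙_ (Over S) ⟶ Z) (f : X ⊗ Y ⟶ Z)
    (hf : (X ◁ y₀) ≫ f = toUnit _ ≫ z₀) : f = snd X Y ≫ lift (toUnit Y ≫ x₀) (𝟙 Y) ≫ f := by
  haveI : IsLocallyNoetherian Y.left := LocallyOfFiniteType.isLocallyNoetherian Y.hom
  haveI : JacobsonSpace Y.left := LocallyOfFiniteType.jacobsonSpace Y.hom
  obtain ⟨W, j, hj, hW, U₀, i₀, hi₀, -, ⟨e₀, he₀⟩, w₀, hw₀⟩ := exists_nhd hX x₀ y₀ z₀ f hf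
  let A : Set Y.left := Set.range j.left
  let Good : Set Y.left := {y | ∃ (U : Over S) (i : U ⟶ Y), IsOpenImmersion i.left ∧ y ∈ Set.range i.left ∧ ∃ w, w ≫ j = i}
  have hGo : IsOpen Good := isOpen_iff_forall_mem_open.2 fun y ⟨U, i, hi, hy, hw⟩ =>
    ⟨Set.range i.left, fun z hz => ⟨U, i, hi, hz, hw⟩, i.left.isOpenEmbedding.isOpen_range, hy⟩
  have hGA : Good ⊆ A := by
    rintro y ⟨U, i, hi, ⟨u, rfl⟩, w, rfl⟩
    exact ⟨w.left u, by rw [← Scheme.Hom.comp_apply, ← Over.comp_left]⟩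
  have hcl : ∀ y ∈ A, IsClosed ({y} : Set Y.left) → y ∈ Good := by
    intro y hy hyc
    let y₁ : 𝟙_ (Over S) ⟶ Y := Over.homMk (pointOfClosedPoint Y.hom y hyc) (pointOfClosedPoint_comp Y.hom y hyc)
    obtain ⟨p, hp⟩ := hy
    have hpc : IsClosed ({p} : Set W.left) := by
      have := hyc.preimage j.left.continuous
      convert this using 1
      ext q
      refine ⟨fun h => ?_, fun h => j.left.isClosedEmbedding.injective (h.trans hp.symm)⟩
      rw [Set.mem_singleton_iff.mp h]; exact hp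
    haveI : LocallyOfFiniteType W.hom := by rw [← Over.w j]; infer_instance
    let p₁ : 𝟙_ (Over S) ⟶ W := Over.homMk (pointOfClosedPoint W.hom p hpc) (pointOfClosedPoint_comp W.hom p hpc)
    have hp₁ : p₁ ≫ j = y₁ := by
      refine Over.OverMorphism.ext (ext_of_apply_closedPoint_eq (h := Y.hom) ?_ ?_ ?_)
      · exact Over.w (p₁ ≫ j)
      · exact Over.w y₁
      · rw [Over.comp_left]
        change j.left (pointOfClosedPoint W.hom p hpc _) = pointOfClosedPoint Y.hom y hyc _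
        erw [pointOfClosedPoint_apply, pointOfClosedPoint_apply, hp]
    have hfy : (X ◁ y₁) ≫ f = toUnit _ ≫ y₁ ≫ lift (toUnit Y ≫ x₀) (𝟙 Y) ≫ f := by
      have h := (hW _ y₁).1 ⟨p₁, hp₁⟩ _ (snd X (𝟙_ (Over S))) (fst X (𝟙_ (Over S)))
      rw [toUnit_unique (toUnit (X ⊗ 𝟙_ (Over S))) (snd X _), ← h]
      congr 1
      all_goals (ext1 <;> simp)
    obtain ⟨W', j', -, hW', U, i, hi, -, ⟨e, he⟩, w, hw⟩ := exists_nhd hX x₀ y₁ _ f hfy
    refine ⟨U, i, hi, ⟨e.left (IsLocalRing.closedPoint k), ?_⟩, (hW U i).2 ((hW' U i).1 ⟨w, hw⟩)⟩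
    show (e.left ≫ i.left) (IsLocalRing.closedPoint k) = y
    rw [← Over.comp_left, he]
    exact pointOfClosedPoint_apply Y.hom y hyc _
  have hAG : A ⊆ Good := by
    intro y hy
    by_contra hy'
    obtain ⟨c, ⟨hc1, hc2⟩, hc3⟩ := nonempty_inter_closedPoints (Z := A ∩ Goodᶜ) ⟨y, hy, hy'⟩
      (j.left.isClosedEmbedding.isClosed_range.inter hGo.isClosed_compl).isLocallyClosed
    exact hc2 (hcl c hc1 hc3)
  have hall : Good = Set.univ := by
    refine IsClopen.eq_univ ⟨?_, hGo⟩ ⟨i₀.left (e₀.left (IsLocalRing.closedPoint k)), U₀, i₀, hi₀, ⟨_, rfl⟩, w₀, hw₀⟩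
    rw [Set.Subset.antisymm hGA hAG]
    exact j.left.isClosedEmbedding.isClosed_range
  choose U i hi hu hwi using fun y : Y.left => (hall ▸ Set.mem_univ y : y ∈ Good)
  haveI := hi
  haveI hX' : ∀ y, IsOpenImmersion (X ◁ i y).left := fun y => by
    haveI : IsOpenImmersion (i y).left := hi y
    haveI : IsOpenImmersion (𝟙 X : X ⟶ X).left := inferInstanceAs (IsOpenImmersion (𝟙 X.left))
    rw [← id_tensorHom, Over.tensorHom_left]
    infer_instance
  have key : ∀ y, (X ◁ i y) ≫ f = (X ◁ i y) ≫ snd X Y ≫ lift (toUnit Y ≫ x₀) (𝟙 Y) ≫ f := by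
    intro y
    have h := (hW _ (i y)).1 (hwi y) _ (snd X (U y)) (fst X (U y))
    rw [whiskerLeft_snd_assoc, ← h]
    congr 1
    all_goals (ext1 <;> simp)
  let 𝒰 : (X ⊗ Y).left.OpenCover := (X ⊗ Y).left.openCoverOfIsOpenCover (fun y => (X ◁ i y).left.opensRange)
    (IsOpenCover.mk (top_le_iff.mp fun z _ => Opens.mem_iSup.2 ⟨(snd X Y).left z,
      (show z ∈ Set.range (X ◁ i ((snd X Y).left z)).left by simpa only [id_tensorHom] using GrpComp.mem_range_map (𝟙 X) (i ((snd X Y).left z)) z ⟨_, rfl⟩ (hu _))⟩))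
  refine Over.OverMorphism.ext (Scheme.Cover.hom_ext 𝒰 _ _ fun y => ?_)
  haveI : IsOpenImmersion (X ◁ i y).left := hX' y
  change (X ◁ i y).left.opensRange.ι ≫ _ = (X ◁ i y).left.opensRange.ι ≫ _
  rw [← cancel_epi (X ◁ i y).left.isoOpensRange.hom, Scheme.Hom.isoOpensRange_hom_ι_assoc,
    Scheme.Hom.isoOpensRange_hom_ι_assoc, ← Over.comp_left, ← Over.comp_left]
  exact congrArg CommaMorphism.left (key y)

end Groth.Agent.AntiAffRig
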